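import Cfsg.Agent.Lib.FusionSystem.ModelUnique
import Cfsg.Agent.Lib.FusionAlperin.Model
import Cfsg.Agent.Lib.FusionSystem.NormalSub
import Cfsg.Agent.Lib.FusionSystem.ControlResults

/-!
The core of a constrained system is centric and radical; constraint passes to saturated subsystems over
strongly closed subgroups.
-/

set_option autoImplicit false
set_option linter.style.haveILetI false

namespace Cfsg.Agent.Lib.FusionConstrained.Inherit

open Cfsg Cfsg.FusionSystem Cfsg.Agent.Lib Cfsg.Agent.Lib.FS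

universe u

variable {Ω : Type u} [Group Ω] {S : Subgroup Ω} [Finite S] {p : ℕ} [Fact p.Prime] {F : FusionSystem S}

theorem isCentric_core (hF : F.IsConstrained p) : F.IsCentric F.core := by
  obtain ⟨-, Q, hQn, hQc⟩ := hF
  exact isCentric_of_le hQc (le_core_of_isNormal hQn) (core_le_base F)

/-- The core of a constrained system is radical. -/
theorem isRadical_core (hS : IsPGroup p S) (hF : F.IsConstrained p) : F.IsRadical p F.core := by
  obtain ⟨G, hG, ι, hM⟩ := FusionAlperin.Model.exists_model_of_constrained hS hF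
  haveI := hM.1
  have hO := model_pCore_eq hM
  have hQS : F.core ≤ S := core_le_base F
  set Q := F.core with hQ
  haveI := finite_sub hQS
  haveI : Finite (MulAut ↥Q) := Finite.of_injective (fun f => (f : Q → Q)) DFunLike.coe_injective
  set j : Q →* G := ι.comp (Subgroup.inclusion hQS) with hj
  have hji : Function.Injective j := hM.2.1.1.comp (Subgroup.inclusion_injective hQS)
  have hjr : j.range = pCore p G := by
    rw [hO]
    ext y
    constructor
    · rintro ⟨x, rfl⟩
      exact ⟨Subgroup.inclusion hQS x, x.2, rfl⟩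
    · rintro ⟨s, hs, rfl⟩
      exact ⟨⟨s, hs⟩, rfl⟩
  let e : Q ≃* ↥(pCore p G) := (MonoidHom.ofInjective hji).trans (MulEquiv.subgroupCongr hjr)
  let act : G →* MulAut ↥Q := (MulAut.congr e.symm).toMonoidHom.comp MulAut.conjNormal
  have hact : ∀ (g : G) (x : Q), ι (Subgroup.inclusion hQS (act g x)) = g * ι (Subgroup.inclusion hQS x) * g⁻¹ :=
    fun g x => by
      show ((e (e.symm (MulAut.conjNormal g (e x))) : ↥(pCore p G)) : G) = _
      rw [MulEquiv.apply_symm_apply, MulAut.conjNormal_apply]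
      rfl
  have hin : ∀ g, act g ∈ F.autGroup Q := by
    intro g
    rw [mem_autGroup hQS]
    exact (hM.2.1.2 Q hQS _ fun x => hQS (act g x).2).2 ⟨g, hact g⟩
  set Γ := F.autGroup Q
  let f : G →* Γ := act.codRestrict Γ hin
  have hsurj : Function.Surjective f := by
    rintro ⟨a, ha⟩
    obtain ⟨g, hg⟩ := (hM.2.1.2 Q hQS _ fun x => hQS (a x).2).1 ((mem_autGroup hQS).1 ha)
    refine ⟨g, Subtype.ext (MulEquiv.ext fun x => ?_)⟩
    apply hji
    show ι (Subgroup.inclusion hQS (act g x)) = ι (Subgroup.inclusion hQS (a x))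
    rw [hact]
    exact (hg x).symm
  have hker : IsPGroup p f.ker := by
    refine IsPGroup.to_le (Cores.pCore_isPGroup (G := G) p) fun g hg => ?_
    refine hM.2.2.2 fun y hy => ?_
    obtain ⟨x, rfl⟩ := hjr.ge hy
    have h1 : act g x = x := by
      have h0 : f g = 1 := hg
      show ((f g : Γ) : MulAut Q) x = x
      rw [h0]; rfl
    have h2 := hact g x
    rw [h1] at h2
    show j x * g = g * j x
    conv_lhs => rw [hj, MonoidHom.comp_apply, h2]
    simp [hj]
  refine ⟨hQS, le_antisymm ?_ ?_⟩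
  · have hp : IsPGroup p ((pCore p Γ).comap f) := (Cores.pCore_isPGroup (G := Γ) p).comap_of_ker_isPGroup f hker
    have hle : (pCore p Γ).comap f ≤ pCore p G := Cores.le_pCore hp
    rintro _ ⟨a, ha, rfl⟩
    obtain ⟨g, rfl⟩ := hsurj a
    obtain ⟨x, hx⟩ := hjr.ge (hle ha)
    refine ⟨x, MulEquiv.ext fun y => hji ?_⟩
    show ι (Subgroup.inclusion hQS (x * y * x⁻¹)) = ι (Subgroup.inclusion hQS (act g y))
    rw [hact, ← hx, map_mul, map_mul, map_inv, map_mul, map_mul, map_inv]
    rfl
  · rintro a ha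
    have haΓ : a ∈ Γ := inn_le_autGroup F hQS ha
    haveI : ((Inn ↥Q).subgroupOf Γ).Normal := by
      constructor
      rintro n ⟨t, ht⟩ g
      refine ⟨(g : MulAut Q) t, MulEquiv.ext fun x => ?_⟩
      show (g : MulAut Q) t * x * ((g : MulAut Q) t)⁻¹ = (g : MulAut Q) ((n : MulAut Q) ((g : MulAut Q)⁻¹ x))
      rw [← show MulAut.conj t = (n : MulAut Q) from ht, MulAut.conj_apply, map_mul, map_mul, map_inv,
        MulAut.apply_inv_self]
    have hp : IsPGroup p ((Inn ↥Q).subgroupOf Γ) := by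
      refine IsPGroup.of_equiv ?_ (Subgroup.subgroupOfEquivOfLe (inn_le_autGroup F hQS)).symm
      exact (isPGroup_of_le hS hQS).of_surjective (MulAut.conj : Q →* MulAut Q).rangeRestrict
        (MonoidHom.rangeRestrict_surjective _)
    exact ⟨⟨a, haΓ⟩, Cores.le_pCore hp (Subgroup.mem_subgroupOf.2 ha), rfl⟩

/-- A subgroup normalized by `S` stabilising `core ≥ U ≥ 1`, `U` strongly closed, lies in the core. -/
theorem le_core_of_stab (hS : IsPGroup p S) (hF : F.IsConstrained p) {U D : Subgroup Ω}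
    (hU : F.StronglyClosed U) (hUQ : U ≤ F.core) (hD : D ≤ S) (hnD : S ≤ Subgroup.normalizer (D : Set Ω))
    (h1 : ∀ d ∈ D, ∀ x ∈ F.core, x⁻¹ * (d * x * d⁻¹) ∈ U) (h2 : ∀ d ∈ D, ∀ x ∈ U, d * x * d⁻¹ = x) :
    D ≤ F.core := by
  have hc := isCentric_core hF
  have hr := isRadical_core hS hF
  set Q := F.core with hQ
  have hQS : Q ≤ S := core_le_base F
  haveI := finite_sub hQS
  let A : Bool → Subgroup Ω := fun b => if b then U else ⊥
  let B : Bool → Subgroup Ω := fun b => if b then ⊤ else U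
  have hbot : ∀ α : MulAut Q, ∀ x : Q, (x : Ω) ∈ A false ↔ ((α x : Q) : Ω) ∈ A false := by
    intro α x
    simp only [A, Bool.false_eq_true, if_false, Subgroup.mem_bot]
    rw [← OneMemClass.coe_one Q, Subtype.coe_inj, Subtype.coe_inj]
    constructor
    · rintro rfl; exact map_one α
    · intro h; exact α.injective (h.trans (map_one α).symm)
  have hiffU : ∀ α ∈ F.autGroup Q, ∀ x : Q, (x : Ω) ∈ A true ↔ ((α x : Q) : Ω) ∈ A true :=
    fun α hα x => autGroup_mem_iff_of_stronglyClosed hU hQS hα x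
  refine le_of_autInducedBy_le_inn hS hQS hD hnD (hc.2 Q (isConj_refl F hQS))
    (le_trans ?_ (le_inn_of_radical (K := layerStab Q A B ⊓ F.autGroup Q) hr inf_le_right ?_ ?_))
  · intro γ hγ
    obtain ⟨d, hd, he⟩ := mem_autInducedBy.1 hγ
    have hγF : γ ∈ F.autGroup Q :=
      autInducedBy_le_autGroup F hQS (mem_autInducedBy.2 ⟨d, hD hd, he⟩)
    refine ⟨fun b => ?_, hγF⟩
    cases b
    · refine ⟨hbot γ, fun x hx => ?_⟩
      simp only [A, Bool.false_eq_true, if_false, Subgroup.mem_bot]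
      rw [he, h2 d hd x hx, inv_mul_cancel]
    · refine ⟨hiffU γ hγF, fun x _ => ?_⟩
      simp only [A, if_true]
      rw [he]
      exact h1 d hd x x.2
  · intro α hα k hk
    refine ⟨layerStab_conj_mem (fun b x => ?_) (fun b x => ?_) hk.1,
      (F.autGroup Q).mul_mem ((F.autGroup Q).mul_mem hα hk.2) ((F.autGroup Q).inv_mem hα)⟩
    · cases b
      · exact hbot α x
      · exact hiffU α hα x
    · cases b
      · exact autGroup_mem_iff_of_stronglyClosed hU hQS hα x
      · simp only [B, if_true, Subgroup.mem_top]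
  · rintro ⟨γ, hγ, -⟩
    have h0 : ∀ x : Q, (x : Ω) ∈ U → (γ ^ p ^ 0) x = x := by
      intro x hx
      have := (hγ false).2 x (by simpa [B] using hx)
      simp only [A, Bool.false_eq_true, if_false, Subgroup.mem_bot, inv_mul_eq_one] at this
      rw [pow_zero, pow_one]
      exact (Subtype.ext this).symm
    obtain ⟨b, -, hb⟩ := exists_pow_fix hS hQS (fun x hx => ((hγ true).1 x).1 hx) h0
    exact ⟨b, Subtype.ext (MulEquiv.ext fun x => hb x ((hγ true).2 x (Subgroup.mem_top _)))⟩

/-- A saturated subsystem over a strongly closed subgroup of a constrained system is constrained. -/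
theorem isConstrained_of_stronglyClosed (hS : IsPGroup p S) (hF : F.IsConstrained p) {T : Subgroup Ω}
    (hT : F.StronglyClosed T) {E : FusionSystem T} (hE : E.IsSaturated p) (hEF : E.IsSubsystemOf F) :
    E.IsConstrained p := by
  have hFs := hF.1
  set Q := F.core with hQ
  have hQn : F.IsNormal Q := FusionAlperin.Join.isNormal_core F
  have hQS : Q ≤ S := hQn.1
  haveI := finite_sub hT.1
  haveI := finite_sub hQS
  set U := Q ⊓ T with hU
  -- `U` is normal in `E`
  have hUn : E.IsNormal U := by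
    obtain ⟨n, Qs, h0, hn, hmono, h⟩ := (isNormal_iff_series hS hFs).1 hQn
    refine (isNormal_iff_series (hS.to_le hT.1) hE).2 ⟨n, fun i => Qs i ⊓ T, ?_, ?_, ?_, fun i => ⟨?_, ?_⟩⟩
    · simp [h0]
    · simp [hn, hU]
    · exact fun i k hik => inf_le_inf_right T (hmono hik)
    · refine ⟨inf_le_right, fun R hR φ hφ x => ⟨(h i).1.2 R (hR.trans inf_le_left) φ (hEF R hφ) x, ?_⟩⟩
      exact (E.le_of_mem hφ).2 x
    · refine le_inf ((Subgroup.commutator_mono inf_le_left inf_le_left).trans (h i).2) ?_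
      exact (Subgroup.commutator_mono inf_le_right inf_le_right).trans
        (Subgroup.commutator_le_self T)
  have hUsc : F.StronglyClosed U :=
    ⟨inf_le_right.trans hT.1, fun R hR φ hφ x => ⟨(isNormal_stronglyClosed hQn).2 R (hR.trans inf_le_left) φ hφ x,
      hT.2 R (hR.trans inf_le_right) φ hφ x⟩⟩
  -- `C_T(U) ≤ Q`
  have hCQ : centralizerIn T U ≤ Q := by
    have hST := stronglyClosed_le_normalizer hT
    have hSU := stronglyClosed_le_normalizer hUsc
    refine le_core_of_stab hS hF hUsc inf_le_left ((centralizerIn_le (S := T) U).trans hT.1) ?_ ?_ ?_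
    · intro s hs
      haveI : Finite ↥(centralizerIn T U) := finite_sub ((centralizerIn_le (S := T) U).trans hT.1)
      refine mem_normalizer_of_conj_mem fun x hx => ?_
      obtain ⟨hxT, hxU⟩ := mem_centralizerIn'.1 hx
      refine mem_centralizerIn'.2 ⟨conj_mem_of_normalizer (hST hs) hxT, fun y hy => ?_⟩
      have := hxU (s⁻¹ * y * s) (conj_inv_mem_of_normalizer (hSU hs) hy)
      calc s * x * s⁻¹ * y * (s * x * s⁻¹)⁻¹
          = s * (x * (s⁻¹ * y * s) * x⁻¹) * s⁻¹ := by group
        _ = y := by rw [this]; group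
    · intro d hd x hx
      refine ⟨?_, comm_mem_of_le_normalizer (hST (hQS hx)) (mem_centralizerIn'.1 hd).1⟩
      exact Q.mul_mem (inv_mem hx) (conj_mem_of_normalizer
        (stronglyClosed_le_normalizer (isNormal_stronglyClosed hQn) (hT.1 (mem_centralizerIn'.1 hd).1)) hx)
    · exact fun d hd x hx => (mem_centralizerIn'.1 hd).2 x hx
  refine ⟨hE, U, hUn, FS.Control.isCentric_of_isNormal hUn ?_⟩
  exact fun x hx => ⟨hCQ hx, (mem_centralizerIn'.1 hx).1⟩

/-- Constraint passes to the fusion system of a normal subgroup. -/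
theorem isConstrained_normal {G H : Type u} [Group G] [Finite G] [Group H] (f : H →* G)
    (hf : Function.Injective f) [f.range.Normal] (R : Sylow p G)
    (h : (groupFusionSystem (R : Subgroup G)).IsConstrained p) :
    (groupFusionSystem ((R : Subgroup G).comap f)).IsConstrained p ∧
      ∃ W : Sylow p H, (W : Subgroup H) = (R : Subgroup G).comap f := by
  haveI : Finite H := Finite.of_injective f hf
  set N : Subgroup G := f.range with hNdef
  set T : Subgroup G := (R : Subgroup G) ⊓ N with hT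
  haveI : Finite ↥(R : Subgroup G) := inferInstance
  obtain ⟨W, hW⟩ := exists_sylow_inf_normal R N
  set E := fusionSystemOfSubgroup N T inf_le_right with hE
  have hcon : E.IsConstrained p :=
    isConstrained_of_stronglyClosed R.isPGroup' h (stronglyClosed_inf_normal R N)
      (fusionSystemOfSubgroup_isSaturated inf_le_right W hW) (invariant_inf_normal R N).1
  obtain ⟨L, hL, ι, hM⟩ := FusionAlperin.Model.exists_model_of_constrained (R.isPGroup'.to_le inf_le_left) hcon
  haveI := hM.1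
  set T' : Subgroup H := (R : Subgroup G).comap f with hT'
  have hTT' : ∀ x : T', f (x : H) ∈ T := fun x => ⟨x.2, ⟨_, rfl⟩⟩
  let c : T' →* T :=
    { toFun := fun x => ⟨f (x : H), hTT' x⟩
      map_one' := Subtype.ext (map_one f)
      map_mul' := fun x y => Subtype.ext (map_mul f (x : H) (y : H)) }
  have hcb : Function.Bijective c := by
    refine ⟨fun x y hxy => Subtype.ext (hf (congrArg (fun z : T => (z : G)) hxy)), fun y => ?_⟩
    obtain ⟨z, hz⟩ := y.2.2
    exact ⟨⟨z, show f z ∈ (R : Subgroup G) from hz ▸ y.2.1⟩, Subtype.ext hz⟩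
  let ι' : T' →* L := ι.comp c
  have hreal : (groupFusionSystem T').IsRealizedBy ι' := by
    refine ⟨hM.2.1.1.comp hcb.1, fun P hP φ hφ => ?_⟩
    have hP0 : P.map f ≤ T := by
      rintro _ ⟨x, hx, rfl⟩
      exact hTT' ⟨x, hP hx⟩
    let e := P.equivMapOfInjective f hf
    let φ₀ : ↥(P.map f) →* G := (f.comp φ).comp e.symm.toMonoidHom
    have hφ₀ : ∀ y, φ₀ y ∈ T := fun y => hTT' ⟨φ (e.symm y), hφ _⟩
    have hcoe : ∀ x : P, ((e x : ↥(P.map f)) : G) = f (x : H) := fun x => rfl
    have hcm : ∀ x : P, φ₀ (e x) = f (φ x) := fun x => by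
      show f (φ (e.symm (e x))) = _
      rw [MulEquiv.symm_apply_apply]
    constructor
    · rintro ⟨-, -, n, hn⟩
      obtain ⟨g, hg⟩ := (hM.2.1.2 _ hP0 φ₀ hφ₀).1 ⟨hP0, hφ₀, f n, ⟨n, rfl⟩, fun y => by
        obtain ⟨x, rfl⟩ := e.surjective y
        rw [hcm, hn, hcoe, map_mul, map_mul, map_inv]⟩
      refine ⟨g, fun x => ?_⟩
      have h1 := hg (e x)
      show ι (c ⟨φ x, hφ x⟩) = g * ι (c ⟨x, hP x.2⟩) * g⁻¹
      refine Eq.trans ?_ (h1.trans ?_)
      · exact congrArg ι (Subtype.ext (hcm x).symm)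
      · exact congrArg (fun z => g * ι z * g⁻¹) (Subtype.ext (hcoe x))
    · rintro ⟨g, hg⟩
      obtain ⟨-, -, n, hnN, hn⟩ := (hM.2.1.2 _ hP0 φ₀ hφ₀).2 ⟨g, fun y => by
        obtain ⟨x, rfl⟩ := e.surjective y
        refine Eq.trans ?_ ((hg x).trans ?_)
        · exact congrArg ι (Subtype.ext (hcm x))
        · exact congrArg (fun z => g * ι z * g⁻¹) (Subtype.ext (hcoe x).symm)⟩
      obtain ⟨m, rfl⟩ := hnN
      refine ⟨hP, hφ, m, fun x => hf ?_⟩
      rw [← hcm, hn, hcoe, map_mul, map_mul, map_inv]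
  refine ⟨?_, ?_⟩
  swap
  · refine ⟨W.comapOfInjective f.rangeRestrict (fun x y hxy => hf (congrArg Subtype.val hxy))
      (fun x _ => MonoidHom.rangeRestrict_surjective f x), ?_⟩
    show (W : Subgroup N).comap f.rangeRestrict = T'
    rw [hW]
    ext z
    exact ⟨fun hz => hz.1, fun hz => ⟨hz, ⟨z, rfl⟩⟩⟩
  refine isConstrained_of_isModel (G := L) (ι := ι') ⟨hM.1, hreal, ?_, hM.2.2.2⟩
  obtain ⟨V, hV⟩ := hM.2.2.1
  refine ⟨V, ?_⟩
  rw [hV, show ι'.range = c.range.map ι from MonoidHom.range_comp ι c,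
    MonoidHom.range_eq_top.2 hcb.2, ← MonoidHom.range_eq_map]

/-- Constraint passes to subnormal subgroups. -/
theorem isConstrained_subnormal {G : Type u} [Group G] [Finite G] (R : Sylow p G)
    (h : (groupFusionSystem (R : Subgroup G)).IsConstrained p) {H : Subgroup G} (hH : H.IsSubnormal) :
    (groupFusionSystem ((R : Subgroup G).subgroupOf H)).IsConstrained p ∧
      ∃ W : Sylow p H, (W : Subgroup H) = (R : Subgroup G).subgroupOf H := by
  induction hH with
  | top =>
    haveI : (⊤ : Subgroup G).subtype.range.Normal := by rw [Subgroup.range_subtype]; infer_instance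
    exact isConstrained_normal (⊤ : Subgroup G).subtype Subtype.coe_injective R h
  | step H K hle _ hN ih =>
    obtain ⟨hc, W, hW⟩ := ih
    haveI : (Subgroup.inclusion hle).range.Normal := by
      rw [Subgroup.inclusion_range]; exact hN
    rw [← hW] at hc
    obtain ⟨h1, h2⟩ := isConstrained_normal (Subgroup.inclusion hle) (Subgroup.inclusion_injective hle) W hc
    have e : (W : Subgroup K).comap (Subgroup.inclusion hle) = (R : Subgroup G).subgroupOf H := by
      rw [hW]; rfl
    rw [e] at h1 h2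
    exact ⟨h1, h2⟩

/-- A central `p`-element lies in every Sylow `p`-subgroup. -/
theorem mem_sylow_of_central {G : Type u} [Group G] [Finite G] (R : Sylow p G) {z : G}
    (hz : z ∈ Subgroup.center G) {a : ℕ} (ha : z ^ p ^ a = 1) : z ∈ (R : Subgroup G) := by
  haveI : (Subgroup.zpowers z).Normal :=
    ⟨fun x hx g => by rw [Subgroup.mem_center_iff.1 (Subgroup.zpowers_le.2 hz hx) g, mul_inv_cancel_right]; exact hx⟩
  refine Cores.pCore_le_sylow R (Cores.le_pCore ?_ (Subgroup.mem_zpowers z))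
  rintro ⟨_, k, rfl⟩
  refine ⟨a, Subtype.ext ?_⟩
  show (z ^ k) ^ p ^ a = 1
  rw [← zpow_natCast, ← zpow_mul, mul_comm, zpow_mul, zpow_natCast, ha, one_zpow]

/-- Constraint passes to central quotients. -/
theorem isConstrained_quotient {G : Type u} [Group G] [Finite G] (R : Sylow p G) (Z : Subgroup G) [Z.Normal]
    (hZ : Z ≤ Subgroup.center G) (h : (groupFusionSystem (R : Subgroup G)).IsConstrained p) :
    (groupFusionSystem ((R : Subgroup G).map (QuotientGroup.mk' Z))).IsConstrained p := by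
  set π := QuotientGroup.mk' Z with hπ
  have hR := R.isPGroup'
  have hsc0 := isCentric_core h
  set F := groupFusionSystem (R : Subgroup G) with hF
  set Q := F.core with hQ
  have hQn : F.IsNormal Q := FusionAlperin.Join.isNormal_core F
  have hQR : Q ≤ R := hQn.1
  haveI := finite_sub hQR
  let R' : Sylow p (G ⧸ Z) := R.mapSurjective (QuotientGroup.mk'_surjective Z)
  have hR' : (R' : Subgroup (G ⧸ Z)) = (R : Subgroup G).map π := rfl
  rw [← hR']
  have hEs := isSaturated_group R'
  -- images of strongly closed subgroups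
  have hlift : ∀ x : G, (∃ a, x ^ p ^ a = 1) → π x ∈ (R : Subgroup G).map π → x ∈ (R : Subgroup G) := by
    rintro x ⟨a, ha⟩ ⟨r, hr, hrx⟩
    obtain ⟨z, hz, hxz⟩ := (QuotientGroup.mk'_eq_mk' Z).1 hrx
    obtain ⟨b, hb⟩ := hR ⟨r, hr⟩
    have hb' : r ^ p ^ b = 1 := congrArg Subtype.val hb
    have hz1 : z ^ p ^ (a + b) = 1 := by
      have h1 : (r * z) ^ p ^ (a + b) = 1 := by rw [hxz, pow_add, pow_mul, ha, one_pow]
      have h2 : r ^ p ^ (a + b) = 1 := by rw [add_comm, pow_add, pow_mul, hb', one_pow]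
      rwa [Commute.mul_pow (Subgroup.mem_center_iff.1 (hZ hz) r), h2, one_mul] at h1
    rw [← hxz]
    exact mul_mem hr (mem_sylow_of_central R (hZ hz) hz1)
  obtain ⟨n, Qs, h0, hn, hmono, hser⟩ := (isNormal_iff_series hR (isSaturated_group R)).1 hQn
  have hsc : ∀ i : Fin n, (groupFusionSystem (R' : Subgroup (G ⧸ Z))).StronglyClosed ((Qs i.succ).map π) := by
    intro i
    have hle : Qs i.succ ≤ R := (hser i).1.1
    refine ⟨Subgroup.map_mono hle, fun P hP φ hφ y => ?_⟩
    obtain ⟨-, hφR, gb, hg⟩ := hφ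
    obtain ⟨g, rfl⟩ := QuotientGroup.mk'_surjective Z gb
    obtain ⟨u, hu, huy⟩ := hP y.2
    obtain ⟨a, ha⟩ := hR ⟨u, hle hu⟩
    have hy : φ y = π (g * u * g⁻¹) := by
      rw [hg, map_mul, map_mul, map_inv, huy]
    have hmem : g * u * g⁻¹ ∈ (R : Subgroup G) :=
      hlift _ ⟨a, by rw [conj_pow, show u ^ p ^ a = 1 from congrArg Subtype.val ha, mul_one, mul_inv_cancel]⟩
        (hy ▸ hφR y)
    have hzp : Subgroup.zpowers u ≤ Qs i.succ := Subgroup.zpowers_le.2 hu
    have hφ0 : conjHom (Subgroup.zpowers u) g ∈ F.Hom (Subgroup.zpowers u) := by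
      refine ⟨hzp.trans hle, ?_, g, fun _ => rfl⟩
      rintro ⟨_, k, rfl⟩
      show g * u ^ k * g⁻¹ ∈ (R : Subgroup G)
      rw [← conj_zpow]
      exact zpow_mem hmem k
    exact ⟨g * u * g⁻¹, (hser i).1.2 _ hzp _ hφ0 ⟨u, Subgroup.mem_zpowers u⟩, hy.symm⟩
  have hQn' : (groupFusionSystem (R' : Subgroup (G ⧸ Z))).IsNormal (Q.map π) := by
    refine (isNormal_iff_series R'.isPGroup' hEs).2 ⟨n, fun i => (Qs i).map π, ?_, ?_, ?_, fun i => ⟨hsc i, ?_⟩⟩
    · simp [h0]
    · simp [hn]
    · exact fun i k hik => Subgroup.map_mono (hmono hik)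
    · rw [← Subgroup.map_commutator]
      exact Subgroup.map_mono (hser i).2
  refine ⟨hEs, Q.map π, hQn', FS.Control.isCentric_of_isNormal hQn' ?_⟩
  set Zp : Subgroup G := (R : Subgroup G) ⊓ Z with hZp
  have hZsc : F.StronglyClosed Zp := by
    refine ⟨inf_le_left, fun P hP φ hφ x => ?_⟩
    obtain ⟨-, -, g, hg⟩ := hφ
    rw [hg, Subgroup.mem_center_iff.1 (hZ (hP x.2).2) g, mul_inv_cancel_right]
    exact hP x.2
  have hZQ : Zp ≤ Q := fun z hz =>
    hsc0.2 Q (isConj_refl F hQR) (mem_centralizerIn.2 ⟨hz.1, fun x _ => Subgroup.mem_center_iff.1 (hZ hz.2) x⟩)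
  set D : Subgroup G := (R : Subgroup G) ⊓ (Subgroup.centralizer ((Q.map π : Subgroup (G ⧸ Z)) : Set (G ⧸ Z))).comap π
  have hRQ := stronglyClosed_le_normalizer (isNormal_stronglyClosed hQn)
  have hDQ : D ≤ Q := by
    refine le_core_of_stab hR h hZsc hZQ inf_le_left ?_ ?_ ?_
    · intro s hs
      haveI : Finite ↥D := inferInstance
      refine mem_normalizer_of_conj_mem fun d hd => ?_
      refine ⟨(R : Subgroup G).mul_mem ((R : Subgroup G).mul_mem hs hd.1) ((R : Subgroup G).inv_mem hs), fun y hy => ?_⟩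
      obtain ⟨x, hx, rfl⟩ := hy
      have h1 := hd.2 (π (s⁻¹ * x * s)) ⟨_, conj_inv_mem_of_normalizer (hRQ hs) hx, rfl⟩
      rw [map_mul, map_mul, map_inv] at h1
      show π x * π (s * d * s⁻¹) = π (s * d * s⁻¹) * π x
      rw [map_mul, map_mul, map_inv]
      calc π x * (π s * π d * (π s)⁻¹) = π s * ((π s)⁻¹ * π x * π s * π d) * (π s)⁻¹ := by group
        _ = π s * (π d * ((π s)⁻¹ * π x * π s)) * (π s)⁻¹ := by rw [h1]
        _ = _ := by group
    · intro d hd x hx
      refine ⟨(R : Subgroup G).mul_mem ((R : Subgroup G).inv_mem (hQR hx))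
        ((R : Subgroup G).mul_mem ((R : Subgroup G).mul_mem hd.1 (hQR hx)) ((R : Subgroup G).inv_mem hd.1)), ?_⟩
      have h1 := hd.2 (π x) ⟨x, hx, rfl⟩
      show x⁻¹ * (d * x * d⁻¹) ∈ Z
      rw [← QuotientGroup.eq_one_iff]
      show π (x⁻¹ * (d * x * d⁻¹)) = 1
      simp only [map_mul, map_inv]
      rw [← h1]
      group
    · intro d hd x hx
      rw [Subgroup.mem_center_iff.1 (hZ hx.2) d, mul_inv_cancel_right]
  intro y hy
  obtain ⟨hyR, hyc⟩ := mem_centralizerIn.1 hy
  obtain ⟨d, hd, rfl⟩ := hyR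
  exact ⟨d, hDQ ⟨hd, fun w hw => hyc w hw⟩, rfl⟩

end Cfsg.Agent.Lib.FusionConstrained.Inherit
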